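import Groth.Agent.L10.RegularUFD
import Mathlib.AlgebraicGeometry.FunctionField
import Mathlib.AlgebraicGeometry.Morphisms.Proper
import Mathlib.AlgebraicGeometry.Morphisms.OpenImmersion
import Mathlib.RingTheory.Localization.NumDen
import Mathlib.RingTheory.Ideal.KrullsHeightTheorem
import Mathlib.AlgebraicGeometry.Noetherian

/-!
# A proper birational morphism onto a regular scheme with irreducible exceptional locus of the
expected dimension is an isomorphism
-/

set_option autoImplicit false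
set_option linter.style.haveILetI false
set_option backward.isDefEq.respectTransparency false
set_option backward.isDefEq.respectTransparency.types false

universe u

open CategoryTheory CategoryTheory.Limits AlgebraicGeometry TopologicalSpace

noncomputable section

namespace Groth.L07.FibIso

variable {X Y : Scheme.{u}}

/-- Reduced fractions at the generic point. -/
theorem exists_fraction [IsIntegral Y] {θ y : Y} (hθ : ∀ z : Y, θ ⤳ z) (hy : θ ⤳ y)
    [UniqueFactorizationMonoid (Y.presheaf.stalk y)] :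
    Function.Injective (Y.presheaf.stalkSpecializes hy).hom ∧
      ∀ k : Y.presheaf.stalk θ, ∃ a b : Y.presheaf.stalk y, b ≠ 0 ∧ IsRelPrime a b ∧
        k * (Y.presheaf.stalkSpecializes hy).hom b = (Y.presheaf.stalkSpecializes hy).hom a := by
  obtain rfl : θ = genericPoint Y := ((hθ _).antisymm (genericPoint_specializes θ)).eq
  refine ⟨IsFractionRing.injective (Y.presheaf.stalk y) Y.functionField, fun k => ?_⟩
  obtain ⟨a, b, hab, hk⟩ := IsFractionRing.exists_reduced_fraction (Y.presheaf.stalk y)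
    (K := Y.functionField) k
  refine ⟨a, b, nonZeroDivisors.coe_ne_zero b, hab, ?_⟩
  rw [← hk]
  exact IsLocalization.mk'_spec _ a b

theorem injective_toFunctionField [IsIntegral X] {η x : X} (hη : ∀ z : X, η ⤳ z) (hx : η ⤳ x) :
    Function.Injective (X.presheaf.stalkSpecializes hx).hom := by
  obtain rfl : η = genericPoint X := ((hη _).antisymm (genericPoint_specializes η)).eq
  exact IsFractionRing.injective (X.presheaf.stalk x) X.functionField

theorem fromSpecStalk_specializes_iff {x : X} (p q : Spec (X.presheaf.stalk x)) :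
    X.fromSpecStalk x p ⤳ X.fromSpecStalk x q ↔ p.asIdeal ≤ q.asIdeal :=
  (X.fromSpecStalk x).isEmbedding.isInducing.specializes_iff.trans
    (PrimeSpectrum.le_iff_specializes p q).symm

/-- The stalk map is bijective away from the exceptional divisors. -/
theorem bijective_stalkMap (f : X ⟶ Y) [IsIntegral X] [IsIntegral Y] [IsLocallyNoetherian X]
    (hreg : ∀ y : Y, IsRegularLocalRing (Y.presheaf.stalk y))
    (η : X) (hη : ∀ z : X, η ⤳ z) (hfη : ∀ z : Y, f η ⤳ z) [IsIso (f.stalkMap η)]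
    (hmin : ∀ ξ : X, (∀ z : X, z ⤳ ξ → z = ξ ∨ z = η) →
      ∀ z : Y, z ⤳ f ξ → z = f ξ ∨ z = f η)
    (x : X) : Function.Bijective (f.stalkMap x).hom := by
  haveI := hreg (f x)
  haveI : UniqueFactorizationMonoid (Y.presheaf.stalk (f x)) := Groth.L10.RegUFD.isUFD _
  let ιY := (Y.presheaf.stalkSpecializes ((hη x).map f.continuous)).hom
  let ιX := (X.presheaf.stalkSpecializes (hη x)).hom
  obtain ⟨hY, hfrac⟩ := exists_fraction hfη ((hη x).map f.continuous)
  have hX : Function.Injective ιX := injective_toFunctionField hη _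
  let φ := (f.stalkMap x).hom
  let φη := (f.stalkMap η).hom
  have hφη : Function.Bijective φη := ConcreteCategory.bijective_of_isIso (f.stalkMap η)
  have hcomm : ∀ a, ιX (φ a) = φη (ιY a) := fun a =>
    (congr($(f.stalkSpecializes_stalkMap η x (hη x)) a)).symm
  have hinj : Function.Injective φ := fun a b hab => hY (hφη.1 (by rw [← hcomm, hab, hcomm]))
  refine ⟨hinj, fun c => ?_⟩
  obtain ⟨k, hk⟩ := hφη.2 (ιX c)
  obtain ⟨a, b, hb, hab, hfr⟩ := hfrac k
  have hcb : c * φ b = φ a := hX (by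
    rw [map_mul, hcomm, hcomm, ← hk, ← map_mul]; exact congrArg φη hfr)
  by_cases hbu : IsUnit b
  · refine ⟨a * ↑hbu.unit⁻¹, ?_⟩
    rw [map_mul, ← hcb, mul_assoc, ← map_mul, IsUnit.mul_val_inv, map_one, mul_one]
  exfalso
  haveI : IsNoetherianRing (X.presheaf.stalk x) := inferInstance
  have hφb : φ b ∈ IsLocalRing.maximalIdeal (X.presheaf.stalk x) :=
    fun h => hbu (isUnit_of_map_unit φ b h)
  obtain ⟨P, hP, -⟩ := Ideal.exists_minimalPrimes_le
    (show Ideal.span {φ b} ≤ IsLocalRing.maximalIdeal _ by rwa [Ideal.span_singleton_le_iff_mem])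
  haveI := hP.1.1
  have hbP : φ b ∈ P := hP.1.2 (Ideal.subset_span rfl)
  have haP : φ a ∈ P := by rw [← hcb]; exact P.mul_mem_left _ hbP
  let p : Spec (X.presheaf.stalk x) := ⟨P, inferInstance⟩
  let ξ := X.fromSpecStalk x p
  -- the only proper generalisation of `ξ` is the generic point
  have hmax : ∀ z : X, z ⤳ ξ → z = ξ ∨ z = η := fun z hz => by
    obtain ⟨p', rfl⟩ : z ∈ Set.range (X.fromSpecStalk x) := by
      rw [Scheme.range_fromSpecStalk]
      exact hz.trans (by
        have : ξ ∈ Set.range (X.fromSpecStalk x) := ⟨p, rfl⟩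
        rwa [Scheme.range_fromSpecStalk] at this)
    have hle : p'.asIdeal ≤ P := (fromSpecStalk_specializes_iff p' p).1 hz
    rcases hle.eq_or_lt with h | h
    · exact Or.inl (congrArg _ (PrimeSpectrum.ext h))
    · refine Or.inr ?_
      haveI := p'.2
      have h0 : p'.asIdeal = ⊥ := by
        have h1 : P.height ≤ 1 := by
          haveI : (Ideal.span {φ b}).IsPrincipal := ⟨⟨φ b, rfl⟩⟩
          exact Ideal.height_le_one_of_isPrincipal_of_mem_minimalPrimes _ P hP
        have h2 : p'.asIdeal.height < 1 :=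
          lt_of_lt_of_le (Ideal.height_strict_mono_of_isPrime h) h1
        have h3 : p'.asIdeal.height = 0 := ENat.lt_one_iff_eq_zero.1 h2
        exact Ideal.height_eq_zero_iff_eq_bot.1 h3
      obtain ⟨q, hq⟩ : η ∈ Set.range (X.fromSpecStalk x) := by
        rw [Scheme.range_fromSpecStalk]; exact hη x
      rw [← hq]
      refine congrArg _ (PrimeSpectrum.ext ?_)
      rw [h0]
      refine (le_bot_iff.1 ?_).symm
      rw [← h0]
      exact (fromSpecStalk_specializes_iff q p').1 (hq ▸ hη _)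
  -- but its image has a height two prime
  let q : Spec (Y.presheaf.stalk (f x)) := Spec.map (f.stalkMap x) p
  have hq : q.asIdeal = P.comap φ := rfl
  have hfξ : f ξ = Y.fromSpecStalk (f x) q := by
    show (X.fromSpecStalk x ≫ f) p = (Spec.map (f.stalkMap x) ≫ Y.fromSpecStalk (f x)) p
    rw [Scheme.SpecMap_stalkMap_fromSpecStalk]
  obtain ⟨fac, hfac, hprod⟩ := UniqueFactorizationMonoid.exists_prime_factors b hb
  have hbq : fac.prod ∈ P.comap φ :=
    ((P.comap φ).mem_of_dvd hprod.symm.dvd (Ideal.mem_comap.2 hbP))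
  obtain ⟨π, hπm, hπq⟩ :=
    ((inferInstance : (P.comap φ).IsPrime).multiset_prod_mem_iff_exists_mem fac).1 hbq
  have hπp : Prime π := hfac π hπm
  have hπb : π ∣ b := (Multiset.dvd_prod hπm).trans hprod.dvd
  have hπa : ¬π ∣ a := fun h => hπp.not_unit (hab h hπb)
  haveI : (Ideal.span {π}).IsPrime := (Ideal.span_singleton_prime hπp.ne_zero).2 hπp
  let r : Spec (Y.presheaf.stalk (f x)) := ⟨Ideal.span {π}, inferInstance⟩
  have hrq : r.asIdeal ≤ q.asIdeal := by
    rw [hq, Ideal.span_singleton_le_iff_mem]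
    exact hπq
  rcases hmin ξ hmax _ (hfξ ▸ (fromSpecStalk_specializes_iff r q).2 hrq) with h | h
  · rw [hfξ] at h
    have h' : r = q := (Y.fromSpecStalk (f x)).isEmbedding.injective h
    refine hπa (Ideal.mem_span_singleton.1 ?_)
    show a ∈ r.asIdeal
    rw [h', hq]
    exact haP
  · obtain ⟨q₀, hq₀⟩ : f η ∈ Set.range (Y.fromSpecStalk (f x)) := by
      rw [Scheme.range_fromSpecStalk]; exact hfη _
    rw [← hq₀] at h
    have h' : r = q₀ := (Y.fromSpecStalk (f x)).isEmbedding.injective h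
    let r₀ : Spec (Y.presheaf.stalk (f x)) := ⟨⊥, Ideal.bot_prime⟩
    have h'' : r.asIdeal ≤ r₀.asIdeal := (fromSpecStalk_specializes_iff r r₀).1 (by
      rw [h', hq₀]; exact hfη _)
    exact hπp.ne_zero (Ideal.span_singleton_eq_bot.1 (le_bot_iff.1 h''))

/-- A proper morphism to a regular irreducible scheme which is an isomorphism over a non-empty open
`W`, with dense preimage and irreducible exceptional locus, is an isomorphism if the points maximal
outside `W` have codimension at most one. -/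
theorem isIso_of_boundary (f : X ⟶ Y) [IsProper f] [IsLocallyNoetherian X] [IsReduced X] [IsIntegral Y]
    (hreg : ∀ y : Y, IsRegularLocalRing (Y.presheaf.stalk y))
    (W : Y.Opens) (hW : (W : Set Y).Nonempty) [IsIso (f ∣_ W)]
    (hdense : closure ((f ⁻¹ᵁ W : X.Opens) : Set X) = Set.univ)
    (hZ : IsPreirreducible ((f ⁻¹ᵁ W : X.Opens) : Set X)ᶜ)
    (hcodim : ∀ y : Y, y ∉ W → (∀ y' : Y, y' ∉ W → y' ⤳ y → y' = y) →
      ∀ z : Y, z ⤳ y → z = y ∨ ∀ z' : Y, z ⤳ z') : IsIso f := by
  let g := f ∣_ W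
  haveI : IrreducibleSpace (W : Scheme.{u}) := by
    haveI : Nonempty (W : Scheme.{u}) := ⟨⟨hW.choose, hW.choose_spec⟩⟩
    exact W.ι.isOpenEmbedding.irreducibleSpace
  haveI : IrreducibleSpace (f ⁻¹ᵁ W : Scheme.{u}) :=
    (asIso g).schemeIsoToHomeo.irreducibleSpace_iff.2 inferInstance
  haveI : IrreducibleSpace X := by
    have h1 : IsIrreducible (Set.range (f ⁻¹ᵁ W).ι) := by
      rw [← Set.image_univ]
      exact (IrreducibleSpace.isIrreducible_univ _).image _ (f ⁻¹ᵁ W).ι.continuous.continuousOn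
    rw [Scheme.Opens.range_ι] at h1
    refine (irreducibleSpace_def X).2 ?_
    have h2 := h1.closure
    rw [hdense] at h2
    exact h2
  haveI : IsIntegral X := isIntegral_of_irreducibleSpace_of_isReduced X
  let η := genericPoint X
  have hη : ∀ z : X, η ⤳ z := genericPoint_specializes
  have hWne : ((f ⁻¹ᵁ W : X.Opens) : Set X).Nonempty :=
    ⟨_, (Classical.arbitrary (f ⁻¹ᵁ W : Scheme.{u})).2⟩
  have hηW : η ∈ f ⁻¹ᵁ W := (hη hWne.choose).mem_open (f ⁻¹ᵁ W).2 hWne.choose_spec
  have hbij : Function.Bijective g := (asIso g).schemeIsoToHomeo.bijective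
  have hlift : ∀ w ∈ W, ∃ z, z ∈ f ⁻¹ᵁ W ∧ f z = w := fun w hw =>
    let ⟨z, hz⟩ := hbij.2 ⟨w, hw⟩
    ⟨z.1, z.2, (morphismRestrict_base_coe f W z).symm.trans (congrArg Subtype.val hz)⟩
  have hsurj : Function.Surjective f := by
    intro y
    have h1 : (W : Set Y) ⊆ Set.range f := fun w hw => let ⟨z, _, hz⟩ := hlift w hw; ⟨z, hz⟩
    have h2 := closure_minimal h1 f.isClosedMap.isClosed_range
    rw [show closure (W : Set Y) = Set.univ from (W.2.dense hW).closure_eq] at h2
    exact h2 (Set.mem_univ y)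
  have hfη : ∀ z : Y, f η ⤳ z := fun z => by
    obtain ⟨x, rfl⟩ := hsurj z
    exact (hη x).map f.continuous
  haveI : IsIso (f.stalkMap η) := by
    have : IsIso (g.stalkMap ⟨η, hηW⟩) := inferInstance
    exact ((MorphismProperty.isomorphisms _).arrow_mk_iso_iff (morphismRestrictStalkMap f W ⟨η, hηW⟩)).1 this
  -- lifting generalisations inside `W`
  have hgen : ∀ ξ ∈ f ⁻¹ᵁ W, ∀ z : Y, z ⤳ f ξ → ∃ z' : X, z' ⤳ ξ ∧ f z' = z := fun ξ hξ z hz => by
    have hzW : z ∈ W := hz.mem_open W.2 hξ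
    obtain ⟨z', hz'⟩ := hbij.2 ⟨z, hzW⟩
    refine ⟨z'.1, ?_, (morphismRestrict_base_coe f W z').symm.trans (congrArg Subtype.val hz')⟩
    have : z' ⤳ ⟨ξ, hξ⟩ := by
      refine (asIso g).schemeIsoToHomeo.isInducing.specializes_iff.1 ?_
      show g z' ⤳ g ⟨ξ, hξ⟩
      rw [hz']
      refine Topology.IsInducing.subtypeVal.specializes_iff.1 ?_
      rw [morphismRestrict_base_coe]
      exact hz
    exact this.map continuous_subtype_val
  have hmin : ∀ ξ : X, (∀ z : X, z ⤳ ξ → z = ξ ∨ z = η) →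
      ∀ z : Y, z ⤳ f ξ → z = f ξ ∨ z = f η := fun ξ hξ z hz => by
    by_cases hξW : ξ ∈ f ⁻¹ᵁ W
    · obtain ⟨z', hz', rfl⟩ := hgen ξ hξW z hz
      rcases hξ z' hz' with rfl | rfl
      · exact Or.inl rfl
      · exact Or.inr rfl
    · let Z : Set X := ((f ⁻¹ᵁ W : X.Opens) : Set X)ᶜ
      obtain ⟨ζ, hζ⟩ := QuasiSober.sober (S := Z) ⟨⟨ξ, hξW⟩, hZ⟩ (f ⁻¹ᵁ W).2.isClosed_compl
      have hζξ : ζ = ξ := (hξ ζ (hζ.specializes hξW)).resolve_right
        fun h => (show ζ ∈ Z from hζ.mem) (h ▸ hηW)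
      subst hζξ
      rcases hcodim (f ζ) hξW (fun y' hy' hsp => by
        obtain ⟨x, rfl⟩ := hsurj y'
        exact hsp.antisymm ((hζ.specializes (show x ∈ Z from hy')).map f.continuous) |>.eq) z hz with h | h
      · exact Or.inl h
      · exact Or.inr ((h _).antisymm (hfη z)).eq
  have hst : ∀ x, IsIso (f.stalkMap x) := fun x => (ConcreteCategory.isIso_iff_bijective _).2
    (bijective_stalkMap f hreg η hη hfη hmin x)
  have hinj : Function.Injective f := fun x₁ x₂ h => by
    haveI := hst x₁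
    haveI := hst x₂
    let A := Y.presheaf.stalk (f x₁)
    let c : Y.presheaf.stalk (f x₂) ≅ A := TopCat.Presheaf.stalkCongr _ (Inseparable.of_eq h.symm)
    let a₁ : Spec A ⟶ X := Spec.map (inv (f.stalkMap x₁)) ≫ X.fromSpecStalk x₁
    let a₂ : Spec A ⟶ X := Spec.map (inv (f.stalkMap x₂) ≫ c.hom) ≫ X.fromSpecStalk x₂
    have w₁ : a₁ ≫ f = Y.fromSpecStalk (f x₁) := by
      show (_ ≫ _) ≫ f = _
      rw [Category.assoc, ← Scheme.SpecMap_stalkMap_fromSpecStalk, ← Spec.map_comp_assoc,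
        IsIso.hom_inv_id, Spec.map_id, Category.id_comp]
    have w₂ : a₂ ≫ f = Y.fromSpecStalk (f x₁) := by
      show (_ ≫ _) ≫ f = _
      rw [Category.assoc, ← Scheme.SpecMap_stalkMap_fromSpecStalk, ← Spec.map_comp_assoc,
        IsIso.hom_inv_id_assoc]
      exact Scheme.SpecMap_stalkSpecializes_fromSpecStalk (specializes_of_eq h)
    haveI := hreg (f x₁)
    haveI : IsDomain A := Groth.L01.isDomain_of_regular A
    let U : (Spec A).Opens := Y.fromSpecStalk (f x₁) ⁻¹ᵁ W
    have hU : (U : Set (Spec A)).Nonempty := by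
      obtain ⟨q, hq⟩ : f η ∈ Set.range (Y.fromSpecStalk (f x₁)) := by
        rw [Scheme.range_fromSpecStalk]; exact hfη _
      exact ⟨q, show Y.fromSpecStalk (f x₁) q ∈ W from hq ▸ hηW⟩
    haveI : IsDominant U.ι := ⟨by rw [DenseRange, Scheme.Opens.range_ι]; exact U.2.dense hU⟩
    have hfac : ∀ a : Spec A ⟶ X, a ≫ f = Y.fromSpecStalk (f x₁) →
        Set.range (U.ι ≫ a) ⊆ Set.range (f ⁻¹ᵁ W).ι := by
      rintro a ha _ ⟨u, rfl⟩
      rw [Scheme.Opens.range_ι]
      show (a ≫ f) u.1 ∈ W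
      rw [ha]
      exact u.2
    let l₁ := IsOpenImmersion.lift (f ⁻¹ᵁ W).ι _ (hfac a₁ w₁)
    let l₂ := IsOpenImmersion.lift (f ⁻¹ᵁ W).ι _ (hfac a₂ w₂)
    have hl : l₁ = l₂ := by
      rw [← cancel_mono g, ← cancel_mono W.ι, Category.assoc, Category.assoc, morphismRestrict_ι,
        IsOpenImmersion.lift_fac_assoc, IsOpenImmersion.lift_fac_assoc]
      exact (Category.assoc _ _ _).trans ((congrArg (U.ι ≫ ·) (w₁.trans w₂.symm)).trans
        (Category.assoc _ _ _).symm)
    have he : a₁ = a₂ := ext_of_isDominant_of_isSeparated f (w₁.trans w₂.symm) U.ι (by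
      rw [← IsOpenImmersion.lift_fac (f ⁻¹ᵁ W).ι _ (hfac a₁ w₁),
        ← IsOpenImmersion.lift_fac (f ⁻¹ᵁ W).ι _ (hfac a₂ w₂)]
      exact congrArg (· ≫ (f ⁻¹ᵁ W).ι) hl)
    have h1 : a₁ (IsLocalRing.closedPoint A) = x₁ := by
      show X.fromSpecStalk x₁ (Spec.map (inv (f.stalkMap x₁)) (IsLocalRing.closedPoint A)) = x₁
      rw [Spec_closedPoint, Scheme.fromSpecStalk_closedPoint]
    have h2 : a₂ (IsLocalRing.closedPoint A) = x₂ := by
      show X.fromSpecStalk x₂ (Spec.map (inv (f.stalkMap x₂) ≫ c.hom) (IsLocalRing.closedPoint A)) = x₂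
      rw [Spec_closedPoint, Scheme.fromSpecStalk_closedPoint]
    rw [← h1, he, h2]
  haveI := IsOpenImmersion.of_isIso_stalkMap f
    (Topology.IsOpenEmbedding.of_continuous_injective_isOpenMap f.continuous hinj
      ((Equiv.ofBijective f ⟨hinj, hsurj⟩).toHomeomorphOfContinuousClosed f.continuous f.isClosedMap).isOpenMap)
  haveI : Epi f.base := (TopCat.epi_iff_surjective _).2 hsurj
  exact IsOpenImmersion.isIso f

end Groth.L07.FibIso
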