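import Groth.Agent.L07.FibIso.Core
import Groth.Agent.L11.SmRegular.Basic
import Mathlib.RingTheory.Flat.TorsionFree
import Mathlib.AlgebraicGeometry.Morphisms.Flat
import Mathlib.RingTheory.DiscreteValuationRing.Basic

/-!
# A proper morphism of families over a discrete valuation ring which is an isomorphism on the generic
fibre
-/

set_option autoImplicit false
set_option linter.style.haveILetI false
set_option backward.isDefEq.respectTransparency false
set_option backward.isDefEq.respectTransparency.types false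

universe u

open CategoryTheory CategoryTheory.Limits AlgebraicGeometry TopologicalSpace

noncomputable section

namespace Groth.L07.FibIso

variable {X Y : Scheme.{u}} {R : Type u} [CommRing R]

theorem mem_preimage_basicOpen (h : Y ⟶ Spec (CommRingCat.of R)) (ϖ : R) {y : Y}
    (q : Spec (Y.presheaf.stalk y)) :
    Y.fromSpecStalk y q ∈ h ⁻¹ᵁ PrimeSpectrum.basicOpen ϖ ↔
      (Spec.preimage (Y.fromSpecStalk y ≫ h)).hom ϖ ∉ q.asIdeal := by
  show (Y.fromSpecStalk y ≫ h) q ∈ PrimeSpectrum.basicOpen ϖ ↔ _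
  conv_lhs => rw [← Spec.map_preimage (Y.fromSpecStalk y ≫ h)]
  rfl

/-- A scheme flat over a domain is reduced if it is reduced over a non-empty basic open. -/
theorem isReduced_of_flat (φ : X ⟶ Spec (CommRingCat.of R)) [Flat φ] {ϖ : R} (hϖ : ϖ ∈ nonZeroDivisors R)
    [IsReduced (φ ⁻¹ᵁ PrimeSpectrum.basicOpen ϖ : Scheme.{u})] : IsReduced X := by
  refine @IsReduced.of_openCover X X.affineCover fun i => ?_
  suffices h : ∀ U : X.Opens, IsAffineOpen U → _root_.IsReduced Γ(X, U) by
    haveI : IsAffine (X.affineCover.X i) := inferInstanceAs (IsAffine (Spec _))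
    let e := X.affineCover.f i
    haveI : _root_.IsReduced Γ(X, e.opensRange) := h _ (isAffineOpen_opensRange e)
    haveI : _root_.IsReduced Γ(X, e ''ᵁ ⊤) := by rw [Scheme.Hom.image_top_eq_opensRange]; infer_instance
    haveI : _root_.IsReduced Γ(X.affineCover.X i, ⊤) :=
      isReduced_of_injective (e.appIso ⊤).inv.hom (by
        exact (ConcreteCategory.bijective_of_isIso (e.appIso ⊤).inv).1)
    exact isReduced_of_isAffine_isReduced _
  intro U hU
  let a : Γ(Spec (CommRingCat.of R), ⊤) := (Scheme.ΓSpecIso (CommRingCat.of R)).inv ϖ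
  let ψ : R →+* Γ(X, U) := ((Scheme.ΓSpecIso (CommRingCat.of R)).inv ≫ φ.appLE ⊤ U le_top).hom
  have hψ : ψ.Flat := by
    have h1 : (φ.appLE ⊤ U le_top).hom.Flat :=
      HasRingHomProperty.appLE @Flat φ inferInstance ⟨⊤, isAffineOpen_top _⟩ ⟨U, hU⟩ le_top
    exact (RingHom.Flat.of_bijective
      (ConcreteCategory.bijective_of_isIso (Scheme.ΓSpecIso (CommRingCat.of R)).inv)).comp h1
  let t : Γ(X, U) := ψ ϖ
  have ht : ∀ b, t * b = 0 → b = 0 := fun b hb => by
    letI := ψ.toAlgebra
    haveI : Module.Flat R Γ(X, U) := hψ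
    refine (Module.Flat.isSMulRegular_of_nonZeroDivisors (M := Γ(X, U)) hϖ) (show ϖ • b = ϖ • 0 from ?_)
    rw [smul_zero]
    exact hb
  have hle : X.basicOpen t ≤ φ ⁻¹ᵁ PrimeSpectrum.basicOpen ϖ := by
    show X.basicOpen (φ.appLE ⊤ U le_top a) ≤ _
    rw [Scheme.basicOpen_appLE]
    refine inf_le_right.trans (φ.preimage_mono ?_)
    rw [basicOpen_eq_of_affine]
  haveI : IsReduced (X.basicOpen t : Scheme.{u}) := isReduced_of_isOpenImmersion (X.homOfLE hle)
  haveI : _root_.IsReduced Γ(X, X.basicOpen t) :=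
    isReduced_of_injective (X.basicOpen t).topIso.inv.hom
      (ConcreteCategory.bijective_of_isIso (X.basicOpen t).topIso.inv).1
  haveI := hU.isLocalization_basicOpen t
  refine isReduced_of_injective (algebraMap Γ(X, U) Γ(X, X.basicOpen t)) ?_
  refine IsLocalization.injective Γ(X, X.basicOpen t) (M := Submonoid.powers t) ?_
  rintro _ ⟨n, rfl⟩
  exact pow_mem (mem_nonZeroDivisors_iff_right.mpr fun b hb => ht b (by rwa [mul_comm])) n

variable [IsDomain R] [IsDiscreteValuationRing R]

theorem isRegularLocalRing_spec (p : Spec (CommRingCat.of R)) :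
    IsRegularLocalRing ((Spec (CommRingCat.of R)).presheaf.stalk p) := by
  haveI : IsRegularLocalRing (Localization.AtPrime p.asIdeal) :=
    IsRegularRing.isRegularLocalRing_localization (R := R) p.asIdeal
  exact IsRegularLocalRing.of_ringEquiv
    (Spec.stalkIso (CommRingCat.of R) p).commRingCatIsoToRingEquiv.symm

/-- A proper morphism from a flat family to a smooth family over a discrete valuation ring which is an
isomorphism on the generic fibres is an isomorphism if the special fibre of the source is irreducible. -/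
theorem isIso_of_dvr (f : X ⟶ Y) (h : Y ⟶ Spec (CommRingCat.of R)) [IsProper f] [Smooth h] [Flat (f ≫ h)]
    (ϖ : R) (hϖ : Irreducible ϖ) [IsIso (f ∣_ (h ⁻¹ᵁ PrimeSpectrum.basicOpen ϖ))]
    (hne : ((h ⁻¹ᵁ PrimeSpectrum.basicOpen ϖ : Y.Opens) : Set Y).Nonempty)
    (hgen : IsPreirreducible ((h ⁻¹ᵁ PrimeSpectrum.basicOpen ϖ : Y.Opens) : Set Y))
    (hspec : IsPreirreducible (((f ≫ h) ⁻¹ᵁ PrimeSpectrum.basicOpen ϖ : X.Opens) : Set X)ᶜ) :
    IsIso f := by
  let D : (Spec (CommRingCat.of R)).Opens := PrimeSpectrum.basicOpen ϖ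
  let W : Y.Opens := h ⁻¹ᵁ D
  haveI : IsLocallyNoetherian Y := LocallyOfFiniteType.isLocallyNoetherian h
  haveI : IsLocallyNoetherian X := LocallyOfFiniteType.isLocallyNoetherian f
  haveI : LocallyOfFiniteType (f ≫ h) := inferInstance
  haveI : LocallyOfFinitePresentation (f ≫ h) := inferInstance
  have hreg : ∀ y : Y, IsRegularLocalRing (Y.presheaf.stalk y) := fun y => by
    haveI := isRegularLocalRing_spec (R := R) (h y)
    exact Groth.L11.SmRegular.isRegularLocalRing_stalk h y
  haveI : ∀ y : Y, _root_.IsReduced (Y.presheaf.stalk y) := fun y => by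
    haveI := hreg y
    haveI := Groth.L01.isDomain_of_regular (Y.presheaf.stalk y)
    infer_instance
  haveI : IsReduced Y := isReduced_of_isReduced_stalk Y
  have hD : Dense (D : Set (Spec (CommRingCat.of R))) :=
    D.2.dense ⟨⟨⊥, Ideal.isPrime_bot⟩, fun h' => hϖ.ne_zero (by simpa using h')⟩
  have hY : closure (W : Set Y) = Set.univ := (hD.preimage h.isOpenMap).closure_eq
  have hX : closure ((f ⁻¹ᵁ W : X.Opens) : Set X) = Set.univ :=
    (hD.preimage (f ≫ h).isOpenMap).closure_eq
  haveI : IrreducibleSpace Y := by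
    refine (irreducibleSpace_def Y).2 ?_
    have h2 := (show IsIrreducible (W : Set Y) from ⟨hne, hgen⟩).closure
    rw [hY] at h2
    exact h2
  haveI : IsIntegral Y := isIntegral_of_irreducibleSpace_of_isReduced Y
  haveI : IsReduced ((f ≫ h) ⁻¹ᵁ D : Scheme.{u}) := isReduced_of_isOpenImmersion (f ∣_ W)
  haveI : IsReduced X := isReduced_of_flat (f ≫ h) (ϖ := ϖ) (mem_nonZeroDivisors_of_ne_zero hϖ.ne_zero)
  refine isIso_of_boundary f hreg W hne hX hspec fun y hy hmax z hz => ?_
  haveI := hreg y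
  haveI := Groth.L01.isDomain_of_regular (Y.presheaf.stalk y)
  let t := (Spec.preimage (Y.fromSpecStalk y ≫ h)).hom ϖ
  have hmem : ∀ q : Spec (Y.presheaf.stalk y), t ∈ q.asIdeal → q = IsLocalRing.closedPoint _ := fun q hq => by
    refine (Y.fromSpecStalk y).isEmbedding.injective ?_
    rw [Scheme.fromSpecStalk_closedPoint]
    refine hmax _ (fun h' => (mem_preimage_basicOpen h ϖ q).1 h' hq) ?_
    have : Y.fromSpecStalk y q ∈ Set.range (Y.fromSpecStalk y) := ⟨q, rfl⟩
    rwa [Scheme.range_fromSpecStalk] at this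
  have htm : t ∈ (IsLocalRing.closedPoint (Y.presheaf.stalk y)).asIdeal := by
    by_contra h'
    exact hy (Scheme.fromSpecStalk_closedPoint (x := y) ▸ (mem_preimage_basicOpen h ϖ _).2 h')
  let m : Ideal (Y.presheaf.stalk y) := IsLocalRing.maximalIdeal _
  have hmin : m ∈ (Ideal.span {t}).minimalPrimes := by
    refine ⟨⟨inferInstance, (Ideal.span_singleton_le_iff_mem _).2 htm⟩, fun q hq _ => ?_⟩
    have h' := hmem ⟨q, hq.1⟩ (hq.2 (Ideal.subset_span rfl))
    exact (congrArg PrimeSpectrum.asIdeal h').ge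
  obtain ⟨q, rfl⟩ : z ∈ Set.range (Y.fromSpecStalk y) := by rw [Scheme.range_fromSpecStalk]; exact hz
  rcases (IsLocalRing.le_maximalIdeal q.2.ne_top).eq_or_lt with h' | h'
  · left
    rw [show q = IsLocalRing.closedPoint _ from PrimeSpectrum.ext h', Scheme.fromSpecStalk_closedPoint]
  · right
    haveI := q.2
    haveI : (Ideal.span {t}).IsPrincipal := ⟨⟨t, rfl⟩⟩
    have h1 : m.height ≤ 1 := Ideal.height_le_one_of_isPrincipal_of_mem_minimalPrimes _ m hmin
    have h3 : q.asIdeal.height = 0 :=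
      ENat.lt_one_iff_eq_zero.1 (lt_of_lt_of_le (Ideal.height_strict_mono_of_isPrime h') h1)
    have h4 : q.asIdeal = ⊥ := Ideal.height_eq_zero_iff_eq_bot.1 h3
    obtain ⟨q₀, hq₀⟩ : genericPoint Y ∈ Set.range (Y.fromSpecStalk y) := by
      rw [Scheme.range_fromSpecStalk]; exact genericPoint_specializes y
    intro z'
    refine Specializes.trans ?_ (genericPoint_specializes z')
    rw [← hq₀]
    exact (fromSpecStalk_specializes_iff q q₀).2 (h4 ▸ bot_le)

end Groth.L07.FibIso
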