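import Groth.Prelude.Def_CInt
import Mathlib.AlgebraicGeometry.Morphisms.FlatDescent
import Mathlib.AlgebraicGeometry.Geometrically.Irreducible
import Mathlib.AlgebraicGeometry.ResidueField

/-!
# The property of being an isomorphism on fibres
-/

set_option autoImplicit false
set_option linter.style.haveILetI false
set_option backward.isDefEq.respectTransparency false
set_option backward.isDefEq.respectTransparency.types false

universe u

open CategoryTheory CategoryTheory.Limits AlgebraicGeometry

noncomputable section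

namespace Groth.L07.FibIso

variable {X Y S T T' : Scheme.{u}} (f : X ⟶ Y) (h : Y ⟶ S)

/-- `f` becomes an isomorphism after base change along `σ`. -/
def FI (σ : T ⟶ S) : Prop := IsIso (pullback.snd f (pullback.fst h σ))

/-- The comparison map of base changes. -/
def bcMapY (τ : T' ⟶ T) (σ : T ⟶ S) : pullback h (τ ≫ σ) ⟶ pullback h σ :=
  pullback.lift (pullback.fst h (τ ≫ σ)) (pullback.snd h (τ ≫ σ) ≫ τ)
    (by rw [Category.assoc, pullback.condition])

theorem isPullback_bcMapY (τ : T' ⟶ T) (σ : T ⟶ S) :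
    IsPullback (bcMapY h τ σ) (pullback.snd h (τ ≫ σ)) (pullback.snd h σ) τ := by
  refine IsPullback.of_right ?_ (pullback.lift_snd _ _ _) (IsPullback.of_hasPullback h σ)
  rw [bcMapY, pullback.lift_fst]
  exact IsPullback.of_hasPullback h (τ ≫ σ)

theorem isPullback_bcMapX (τ : T' ⟶ T) (σ : T ⟶ S) :
    ∃ m, IsPullback m (pullback.snd f (pullback.fst h (τ ≫ σ))) (pullback.snd f (pullback.fst h σ))
      (bcMapY h τ σ) := by
  refine ⟨pullback.lift (pullback.fst f _) (pullback.snd f (pullback.fst h (τ ≫ σ)) ≫ bcMapY h τ σ) ?_,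
    IsPullback.of_right ?_ (pullback.lift_snd _ _ _) (IsPullback.of_hasPullback f (pullback.fst h σ))⟩
  · rw [bcMapY, Category.assoc, pullback.lift_fst, pullback.condition]
  · rw [pullback.lift_fst, bcMapY, pullback.lift_fst]
    exact IsPullback.of_hasPullback f (pullback.fst h (τ ≫ σ))

theorem FI.comp {σ : T ⟶ S} (hF : FI f h σ) (τ : T' ⟶ T) : FI f h (τ ≫ σ) := by
  obtain ⟨m, hm⟩ := isPullback_bcMapX f h τ σ
  exact (MorphismProperty.of_isPullback (P := MorphismProperty.isomorphisms Scheme.{u}) hm hF :)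

theorem fi_comp_iff (σ : T ⟶ S) (τ : T' ⟶ T) [Surjective τ] [Flat τ] [QuasiCompact τ] :
    FI f h (τ ≫ σ) ↔ FI f h σ := by
  refine ⟨fun hF => ?_, fun hF => hF.comp f h τ⟩
  obtain ⟨m, hm⟩ := isPullback_bcMapX f h τ σ
  have hb := (isPullback_bcMapY h τ σ).flip
  have hQ : (@Surjective ⊓ @Flat ⊓ @QuasiCompact : MorphismProperty Scheme.{u}) (bcMapY h τ σ) :=
    ⟨⟨MorphismProperty.of_isPullback hb.flip.flip ‹Surjective τ›,
      MorphismProperty.of_isPullback hb.flip.flip ‹Flat τ›⟩,
      MorphismProperty.of_isPullback hb.flip.flip ‹QuasiCompact τ›⟩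
  exact (MorphismProperty.of_isPullback_of_descendsAlong
    (P := MorphismProperty.isomorphisms Scheme.{u}) hm.flip hQ hF :)

instance (priority := low) surjective_of_subsingleton {A B : Scheme.{u}} (τ : A ⟶ B) [Nonempty A]
    [Subsingleton B] : Surjective τ :=
  ⟨fun y => ⟨Classical.arbitrary A, Subsingleton.elim _ _⟩⟩

theorem flat_specMap_field {K L : Type u} [Field K] [Field L] (τ : Spec (CommRingCat.of L) ⟶ Spec (CommRingCat.of K)) :
    Flat τ := by
  rw [← Spec.map_preimage τ, HasRingHomProperty.Spec_iff (P := @Flat)]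
  letI := (Spec.preimage τ).hom.toAlgebra
  exact (inferInstance : Module.Flat K L)

/-- The property only depends on the image point. -/
theorem fi_field_iff {K : Type u} [Field K] (σ : Spec (CommRingCat.of K) ⟶ S) :
    FI f h σ ↔ FI f h (S.fromSpecResidueField (σ (IsLocalRing.closedPoint K))) := by
  have hs : Spec.map (S.descResidueField (Scheme.stalkClosedPointTo σ)) ≫ S.fromSpecResidueField _ = σ :=
    Scheme.descResidueField_stalkClosedPointTo_fromSpecResidueField K S σ
  haveI := flat_specMap_field (K := S.residueField (σ (IsLocalRing.closedPoint K)))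
    (Spec.map (S.descResidueField (Scheme.stalkClosedPointTo σ)))
  conv_lhs => rw [← hs]
  exact fi_comp_iff f h _ _

theorem fi_field_iff_of_eq {K L : Type u} [Field K] [Field L] (σ : Spec (CommRingCat.of K) ⟶ S)
    (σ' : Spec (CommRingCat.of L) ⟶ S) (p : Spec (CommRingCat.of K)) (p' : Spec (CommRingCat.of L))
    (he : σ p = σ' p') : FI f h σ ↔ FI f h σ' := by
  rw [fi_field_iff, fi_field_iff f h σ', Subsingleton.elim (IsLocalRing.closedPoint K) p,
    Subsingleton.elim (IsLocalRing.closedPoint L) p', he]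

theorem isPullback_map (σ : T ⟶ S) :
    IsPullback (pullback.fst (f ≫ h) σ)
      (pullback.map (f ≫ h) σ h σ f (𝟙 _) (𝟙 _) (by simp) (by simp)) f (pullback.fst h σ) := by
  refine IsPullback.of_bot ?_ (pullback.lift_fst _ _ _).symm (IsPullback.of_hasPullback h σ)
  rw [pullback.lift_snd, Category.comp_id]
  exact IsPullback.of_hasPullback (f ≫ h) σ

theorem isIso_map_iff (σ : T ⟶ S) :
    IsIso (pullback.map (f ≫ h) σ h σ f (𝟙 _) (𝟙 _) (by simp) (by simp)) ↔ FI f h σ := by
  rw [← (isPullback_map f h σ).isoPullback_hom_snd]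
  exact ⟨fun _ => IsIso.of_isIso_comp_left (isPullback_map f h σ).isoPullback.hom _,
    fun hF => by haveI : IsIso (pullback.snd f (pullback.fst h σ)) := hF; infer_instance⟩

theorem fiberMap_iff (s : S) : IsIso (CInt.fiberMap f h s) ↔ FI f h (S.fromSpecResidueField s) :=
  isIso_map_iff f h _

theorem isIso_morphismRestrict_of_fi {σ : T ⟶ S} (V : S.Opens) (hσ : Set.range σ = V) [IsOpenImmersion σ]
    (hF : FI f h σ) : IsIso (f ∣_ (h ⁻¹ᵁ V)) := by
  let e : T ≅ (V : Scheme.{u}) := IsOpenImmersion.isoOfRangeEq σ V.ι (hσ.trans V.range_ι.symm)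
  have hV : FI f h V.ι := by
    have := hF.comp f h e.inv
    rwa [IsOpenImmersion.isoOfRangeEq_inv_fac] at this
  let i := pullbackRestrictIsoRestrict h V
  have h1 : IsPullback (pullback.fst f (pullback.fst h V.ι)) (pullback.snd f (pullback.fst h V.ι) ≫ i.hom)
      f (h ⁻¹ᵁ V).ι :=
    (IsPullback.of_hasPullback f (pullback.fst h V.ι)).of_iso (Iso.refl _) (Iso.refl _) i (Iso.refl _)
      (by simp) (by simp) (by simp) (by
        rw [Iso.refl_hom, Category.comp_id, ← pullbackRestrictIsoRestrict_inv_fst h V, Iso.hom_inv_id_assoc])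
  haveI : IsIso (pullback.snd f (pullback.fst h V.ι)) := hV
  have h2 := (isPullback_morphismRestrict f (h ⁻¹ᵁ V)).flip
  rw [← h2.isoIsPullback_hom_snd _ _ h1]
  infer_instance

theorem irreducibleSpace_of_comp {S' : Scheme.{u}} (p : T ⟶ S) (τ : S' ⟶ T) [Surjective τ] (g : X ⟶ S)
    [IrreducibleSpace ↥(pullback g (τ ≫ p))] : IrreducibleSpace ↥(pullback g p) := by
  haveI : Surjective (bcMapY g τ p) := MorphismProperty.of_isPullback (isPullback_bcMapY g τ p).flip ‹Surjective τ›
  exact (bcMapY g τ p).surjective.irreducibleSpace (bcMapY g τ p).continuous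

theorem isPreirreducible_preimage (g : X ⟶ S) (σ : T ⟶ S) [IrreducibleSpace ↥(pullback g σ)]
    (Z : Set S) (hZ : Set.range σ = Z) : IsPreirreducible (g ⁻¹' Z) := by
  rw [← hZ, ← Scheme.Pullback.range_fst, ← Set.image_univ]
  exact PreirreducibleSpace.isPreirreducible_univ.image _ (pullback.fst g σ).continuous.continuousOn

end Groth.L07.FibIso
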