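import Groth.Agent.L07.FibIso.Main
import Groth.Agent.L19.Limit.MaxPoints

/-!
# Fibrewise isomorphisms specialise, without properness over the base
-/

set_option autoImplicit false
set_option linter.style.haveILetI false
set_option maxSynthPendingDepth 3
set_option backward.isDefEq.respectTransparency false
set_option backward.isDefEq.respectTransparency.types false

universe u

open CategoryTheory CategoryTheory.Limits AlgebraicGeometry Opposite

noncomputable section

namespace Groth.L07.FibIso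

theorem isPreirreducible_preimage_pre {X S T : Scheme.{u}} (g : X ⟶ S) (σ : T ⟶ S)
    [PreirreducibleSpace ↥(pullback g σ)] (Z : Set S) (hZ : Set.range σ = Z) : IsPreirreducible (g ⁻¹' Z) := by
  rw [← hZ, ← Scheme.Pullback.range_fst, ← Set.image_univ]
  exact PreirreducibleSpace.isPreirreducible_univ.image _ (pullback.fst g σ).continuous.continuousOn

theorem isIso_of_isEmpty_target {X Y : Scheme.{u}} (f : X ⟶ Y) [IsEmpty Y] : IsIso f := by
  haveI : IsEmpty X := Function.isEmpty f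
  haveI : Surjective f := ⟨fun y => (IsEmpty.false y).elim⟩
  haveI : Epi f.base := (TopCat.epi_iff_surjective _).2 f.surjective
  exact IsOpenImmersion.isIso f

section Dvr

variable {X Y : Scheme.{u}} {R : Type u} [CommRing R] [IsDomain R] [IsDiscreteValuationRing R]

/-- Over a discrete valuation ring an isomorphism on the generic fibre gives one on the special fibre,
if both fibres of the source are preirreducible. -/
theorem fi_special_of_generic (f : X ⟶ Y) (h : Y ⟶ Spec (CommRingCat.of R)) [Smooth h]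
    [IsProper f] [Flat (f ≫ h)] (K : Type u) [Field K] [Algebra R K] [IsFractionRing R K]
    (k : Type u) [Field k] [Algebra R k] (hk : Function.Surjective (algebraMap R k))
    [PreirreducibleSpace ↥(pullback (f ≫ h) (Spec.map (CommRingCat.ofHom (algebraMap R K))))]
    [PreirreducibleSpace ↥(pullback (f ≫ h) (Spec.map (CommRingCat.ofHom (algebraMap R k))))]
    (hF : FI f h (Spec.map (CommRingCat.ofHom (algebraMap R K)))) :
    FI f h (Spec.map (CommRingCat.ofHom (algebraMap R k))) := by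
  rcases isEmpty_or_nonempty Y with hY | hY
  · haveI := isIso_of_isEmpty_target f
    exact fi_of_isIso f h _
  let σK := Spec.map (CommRingCat.ofHom (algebraMap R K))
  let σk := Spec.map (CommRingCat.ofHom (algebraMap R k))
  obtain ⟨ϖ, hϖ⟩ := IsDiscreteValuationRing.exists_irreducible R
  let D : (Spec (CommRingCat.of R)).Opens := PrimeSpectrum.basicOpen ϖ
  haveI : IsLocalization.Away ϖ K := by
    refine (IsLocalization.iff_of_le_of_exists_dvd (S := K) (M := Submonoid.powers ϖ) (nonZeroDivisors R)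
      (powers_le_nonZeroDivisors_of_noZeroDivisors hϖ.ne_zero) fun r hr => ?_).2 ‹_›
    obtain ⟨n, u, rfl⟩ := IsDiscreteValuationRing.eq_unit_mul_pow_irreducible (nonZeroDivisors.ne_zero hr) hϖ
    exact ⟨ϖ ^ n, ⟨n, rfl⟩, ⟨↑u⁻¹, by rw [mul_comm (↑u : R), mul_assoc, Units.mul_inv, mul_one]⟩⟩
  have hσK : Set.range σK = (D : Set (Spec (CommRingCat.of R))) :=
    PrimeSpectrum.localization_away_comap_range K ϖ
  have hker : RingHom.ker (algebraMap R k) = Ideal.span {ϖ} := by
    rw [← hϖ.maximalIdeal_eq]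
    exact IsLocalRing.eq_maximalIdeal (RingHom.ker_isMaximal_of_surjective _ hk)
  have hσk : Set.range σk = (D : Set (Spec (CommRingCat.of R)))ᶜ := by
    show Set.range (PrimeSpectrum.comap (algebraMap R k)) = _
    rw [range_comap_of_surjective k (algebraMap R k) hk, hker, PrimeSpectrum.zeroLocus_span]
    exact (compl_compl _).symm.trans (congrArg compl (PrimeSpectrum.basicOpen_eq_zeroLocus_compl ϖ).symm)
  haveI : IsOpenImmersion σK := IsOpenImmersion.of_isLocalization ϖ
  haveI := isIso_morphismRestrict_of_fi f h D hσK hF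
  haveI : IsIso (pullback.map (f ≫ h) σK h σK f (𝟙 _) (𝟙 _) (by simp) (by simp)) :=
    (isIso_map_iff f h σK).2 hF
  haveI : PreirreducibleSpace ↥(pullback h σK) :=
    (asIso (pullback.map (f ≫ h) σK h σK f (𝟙 _) (𝟙 _) _ _)).schemeIsoToHomeo.surjective.preirreducibleSpace
      (asIso (pullback.map (f ≫ h) σK h σK f (𝟙 _) (𝟙 _) _ _)).schemeIsoToHomeo.continuous
  have hD : Dense (D : Set (Spec (CommRingCat.of R))) :=
    D.2.dense ⟨⟨⊥, Ideal.isPrime_bot⟩, fun h' => hϖ.ne_zero (by simpa using h')⟩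
  haveI : IsIso f := isIso_of_dvr f h ϖ hϖ (hD.preimage h.isOpenMap).nonempty
    (isPreirreducible_preimage_pre h σK _ hσK)
    (isPreirreducible_preimage_pre (f ≫ h) σk _ hσk)
  exact fi_of_isIso f h _

end Dvr

theorem preirreducibleSpace_of_comp {X S T S' : Scheme.{u}} (p : T ⟶ S) (τ : S' ⟶ T) [Surjective τ] (g : X ⟶ S)
    [PreirreducibleSpace ↥(pullback g (τ ≫ p))] : PreirreducibleSpace ↥(pullback g p) := by
  haveI : Surjective (bcMapY g τ p) := MorphismProperty.of_isPullback (isPullback_bcMapY g τ p).flip ‹Surjective τ›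
  exact (bcMapY g τ p).surjective.preirreducibleSpace (bcMapY g τ p).continuous

/-- Preirreducible fibres are transferred to a base change of a model. -/
theorem preirreducibleSpace_transfer {X' S' X₀ S₀ X₁ S₁ : Scheme.{u}}
    {g' : X' ⟶ S'} (hpre : ∀ (M : Type u) [Field M] (σ : Spec (CommRingCat.of M) ⟶ S'),
      PreirreducibleSpace ↥(pullback g' σ))
    {g₀ : X₀ ⟶ S₀} {g₁ : X₁ ⟶ S₁} {b : X' ⟶ X₀} {q : S' ⟶ S₀} (sq₀ : IsPullback b g' g₀ q)
    {c : X₁ ⟶ X₀} {r : S₁ ⟶ S₀} (sq₁ : IsPullback c g₁ g₀ r)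
    {K L : Type u} [Field K] [Field L] (σ : Spec (CommRingCat.of K) ⟶ S')
    (σ₁ : Spec (CommRingCat.of L) ⟶ S₁)
    (he : q (σ (IsLocalRing.closedPoint K)) = r (σ₁ (IsLocalRing.closedPoint L))) :
    PreirreducibleSpace ↥(pullback g₁ σ₁) := by
  obtain ⟨M, _, τ, τ', hτ⟩ := exists_common (σ ≫ q) (σ₁ ≫ r) he
  have hW := IsPullback.of_hasPullback g' (τ ≫ σ)
  haveI := hpre M (τ ≫ σ)
  have h0 : IsPullback (pullback.fst g' (τ ≫ σ) ≫ b) (pullback.snd g' (τ ≫ σ)) g₀ ((τ' ≫ σ₁) ≫ r) := by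
    have := hW.paste_horiz sq₀
    rwa [show (τ ≫ σ) ≫ q = (τ' ≫ σ₁) ≫ r by rw [Category.assoc, hτ, Category.assoc]] at this
  let l := sq₁.lift (pullback.fst g' (τ ≫ σ) ≫ b) (pullback.snd g' (τ ≫ σ) ≫ τ' ≫ σ₁)
    (by rw [h0.w]; simp [Category.assoc])
  have h1 : IsPullback l (pullback.snd g' (τ ≫ σ)) g₁ (τ' ≫ σ₁) :=
    IsPullback.of_right (by rw [sq₁.lift_fst]; exact h0) (sq₁.lift_snd _ _ _) sq₁
  haveI : PreirreducibleSpace ↥(pullback g₁ (τ' ≫ σ₁)) :=
    h1.isoPullback.schemeIsoToHomeo.surjective.preirreducibleSpace h1.isoPullback.schemeIsoToHomeo.continuous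
  exact preirreducibleSpace_of_comp σ₁ τ' g₁

section Model

variable {A : Type u} [CommRing A]

/-- A model of a flat family with a proper map to a smooth family. -/
theorem exists_local_model {X Y : Scheme.{u}} (f : X ⟶ Y) (h : Y ⟶ Spec (CommRingCat.of A)) [IsAffine Y]
    [Smooth h] [IsProper f] [Flat (f ≫ h)] [LocallyOfFinitePresentation (f ≫ h)] :
    ∃ (j : (Groth.L05.ModelFG.FG A)ᵒᵖ) (X₀ Y₀ : Scheme.{u}) (f₀ : X₀ ⟶ Y₀)
      (h₀ : Y₀ ⟶ (Groth.L05.ModelFG.specDiagram A).obj j) (gX : X ⟶ X₀) (gY : Y ⟶ Y₀),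
      Smooth h₀ ∧ IsProper f₀ ∧ Flat (f₀ ≫ h₀) ∧
        IsPullback gY h h₀ ((Groth.L05.ModelFG.specCone A).π.app j) ∧ IsPullback gX f f₀ gY := by
  obtain ⟨A₁, hA₁, X₁, g₁, qX, hfl, hlfp, hqc, sqX⟩ :=
    Groth.L05.ModelFG.exists_model (A := A) (P := @Flat) Groth.L19.Limit.descends_flat (f ≫ h) ‹_›
  obtain ⟨A₂, hA₂, Y₁, h₁, qY, hsm, -, hqc', sqY⟩ :=
    Groth.L05.ModelFG.exists_model (A := A) (P := @Smooth) Groth.L19.Limit.descends_smooth h ‹_›
  let D := Groth.L05.ModelFG.specDiagram A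
  let c := Groth.L05.ModelFG.specCone A
  let j₁ : (Groth.L05.ModelFG.FG A)ᵒᵖ := op ⟨A₁, hA₁⟩
  let j₂ : (Groth.L05.ModelFG.FG A)ᵒᵖ := op ⟨A₂, hA₂⟩
  let g₁' : X₁ ⟶ D.obj j₁ := g₁
  let h₁' : Y₁ ⟶ D.obj j₂ := h₁
  let i := IsCofiltered.min j₁ j₂
  let xi := pullback.snd g₁' (D.map (IsCofiltered.minToLeft j₁ j₂))
  let yi := pullback.snd h₁' (D.map (IsCofiltered.minToRight j₁ j₂))
  haveI : Flat xi := MorphismProperty.pullback_snd _ _ hfl
  haveI : LocallyOfFinitePresentation xi := MorphismProperty.pullback_snd _ _ hlfp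
  haveI : QuasiCompact xi := MorphismProperty.pullback_snd _ _ hqc
  haveI : Smooth yi := MorphismProperty.pullback_snd _ _ hsm
  haveI : QuasiCompact yi := MorphismProperty.pullback_snd _ _ hqc'
  haveI : CompactSpace (D.obj i) := inferInstanceAs (CompactSpace (Spec _))
  haveI : QuasiSeparatedSpace (D.obj i) := inferInstanceAs (QuasiSeparatedSpace (Spec _))
  haveI : IsLocallyNoetherian (D.obj i) := by
    haveI : Algebra.FiniteType ℤ i.unop.1 := i.unop.1.fg_iff_finiteType.mp i.unop.2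
    haveI : IsNoetherianRing i.unop.1 := Algebra.FiniteType.isNoetherianRing ℤ i.unop.1
    exact inferInstanceAs (IsLocallyNoetherian (Spec (CommRingCat.of ↥i.unop.1)))
  haveI : IsLocallyNoetherian (pullback g₁' (D.map (IsCofiltered.minToLeft j₁ j₂))) :=
    LocallyOfFiniteType.isLocallyNoetherian xi
  haveI : IsLocallyNoetherian (pullback h₁' (D.map (IsCofiltered.minToRight j₁ j₂))) :=
    LocallyOfFiniteType.isLocallyNoetherian yi
  haveI : CompactSpace ↥(pullback g₁' (D.map (IsCofiltered.minToLeft j₁ j₂))) :=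
    QuasiCompact.compactSpace_of_compactSpace xi
  haveI : CompactSpace ↥(pullback h₁' (D.map (IsCofiltered.minToRight j₁ j₂))) :=
    QuasiCompact.compactSpace_of_compactSpace yi
  let sX' : X ⟶ pullback g₁' (D.map (IsCofiltered.minToLeft j₁ j₂)) :=
    pullback.lift qX ((f ≫ h) ≫ c.π.app i) (by rw [Category.assoc, c.w]; exact sqX.w)
  have hX : IsPullback sX' (f ≫ h) xi (c.π.app i) :=
    IsPullback.of_right (by rw [pullback.lift_fst, c.w]; exact sqX) (pullback.lift_snd _ _ _)
      (IsPullback.of_hasPullback _ _)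
  let sY' : Y ⟶ pullback h₁' (D.map (IsCofiltered.minToRight j₁ j₂)) :=
    pullback.lift qY (h ≫ c.π.app i) (by rw [Category.assoc, c.w]; exact sqY.w)
  have hY : IsPullback sY' h yi (c.π.app i) :=
    IsPullback.of_right (by rw [pullback.lift_fst, c.w]; exact sqY) (pullback.lift_snd _ _ _)
      (IsPullback.of_hasPullback _ _)
  obtain ⟨j, φ, fj, sX, sY, hfj, hX1, hX2, hY1, hY2, hcomm⟩ :=
    Groth.L19.Limit.exists_hom_stage (Groth.L05.ModelFG.isLimitSpecCone A) hX hY f rfl
  let hj := pullback.snd yi (D.map φ)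
  let gj := pullback.snd xi (D.map φ)
  have sqY' : IsPullback sY h hj (c.π.app j) :=
    IsPullback.of_right (by rw [hY1, c.w]; exact hY) hY2 (IsPullback.of_hasPullback yi (D.map φ))
  have sqX' : IsPullback sX f fj sY := by
    refine IsPullback.of_bot ?_ hcomm sqY'
    rw [hfj]
    exact IsPullback.of_right (by rw [hX1, c.w]; exact hX) hX2 (IsPullback.of_hasPullback xi (D.map φ))
  haveI : IsLocallyNoetherian (D.obj j) := by
    haveI : Algebra.FiniteType ℤ j.unop.1 := j.unop.1.fg_iff_finiteType.mp j.unop.2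
    haveI : IsNoetherianRing j.unop.1 := Algebra.FiniteType.isNoetherianRing ℤ j.unop.1
    exact inferInstanceAs (IsLocallyNoetherian (Spec (CommRingCat.of ↥j.unop.1)))
  haveI : CompactSpace (D.obj j) := inferInstanceAs (CompactSpace (Spec _))
  haveI : IsLocallyNoetherian (pullback yi (D.map φ)) := LocallyOfFiniteType.isLocallyNoetherian hj
  haveI : IsLocallyNoetherian (pullback xi (D.map φ)) := LocallyOfFiniteType.isLocallyNoetherian gj
  haveI : CompactSpace ↥(pullback yi (D.map φ)) := QuasiCompact.compactSpace_of_compactSpace hj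
  haveI : CompactSpace ↥(pullback xi (D.map φ)) := QuasiCompact.compactSpace_of_compactSpace gj
  haveI : LocallyOfFiniteType fj := by
    haveI : LocallyOfFiniteType (fj ≫ hj) := by rw [hfj]; infer_instance
    exact locallyOfFiniteType_of_comp fj hj
  obtain ⟨l, hl⟩ := Groth.L19.Limit.exists_isProper (D := D) (f₀ := fj) (g₀ := hj)
    (Groth.L05.ModelFG.isLimitSpecCone A) sqY' sqX'
  refine ⟨l.left, _, _, Groth.L19.Limit.stageHom (D := D) fj hj l, pullback.fst (D.map l.hom) hj,
    pullback.lift ((f ≫ h) ≫ c.π.app l.left) sX (by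
      rw [Category.assoc, c.w, (sqX'.paste_vert sqY').w]),
    pullback.lift (h ≫ c.π.app l.left) sY (by rw [Category.assoc, c.w, sqY'.w]),
    inferInstance, hl, ?_, ?_, ?_⟩
  · rw [Groth.L19.Limit.stageHom_fst]
    haveI : Flat (fj ≫ hj) := by rw [hfj]; infer_instance
    exact MorphismProperty.pullback_fst _ _ ‹_›
  · exact IsPullback.of_right (by rw [pullback.lift_snd, c.w]; exact sqY') (pullback.lift_fst _ _ _)
      (IsPullback.of_hasPullback _ _).flip
  · refine IsPullback.of_bot ?_ ?_ (IsPullback.of_right (by rw [pullback.lift_snd, c.w]; exact sqY')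
      (pullback.lift_fst _ _ _) (IsPullback.of_hasPullback _ _).flip)
    · rw [Groth.L19.Limit.stageHom_fst]
      exact IsPullback.of_right (by rw [pullback.lift_snd, c.w]; exact sqX'.paste_vert sqY')
        (pullback.lift_fst _ _ _) (IsPullback.of_hasPullback _ _).flip
    · apply pullback.hom_ext
      · simp [Groth.L19.Limit.stageHom]
      · simp [Groth.L19.Limit.stageHom, sqX'.w]

/-- Isomorphisms of fibres specialise. -/
theorem fi_of_specializes {X Y : Scheme.{u}} (f : X ⟶ Y) (h : Y ⟶ Spec (CommRingCat.of A)) [IsAffine Y]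
    [Smooth h] [IsProper f] [Flat (f ≫ h)] [LocallyOfFinitePresentation (f ≫ h)]
    (hpre : ∀ (M : Type u) [Field M] (σ : Spec (CommRingCat.of M) ⟶ Spec (CommRingCat.of A)),
      PreirreducibleSpace ↥(pullback (f ≫ h) σ))
    {a b : Spec (CommRingCat.of A)} (hab : a ⤳ b)
    (hF : FI f h ((Spec (CommRingCat.of A)).fromSpecResidueField a)) :
    FI f h ((Spec (CommRingCat.of A)).fromSpecResidueField b) := by
  obtain ⟨j, X₀, Y₀, f₀, h₀, qX, qY, hsm, hpr₀, hfl₀, sqY₀, sqX₀⟩ := exists_local_model f h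
  haveI := hsm; haveI := hpr₀; haveI := hfl₀
  let S₀ := (Groth.L05.ModelFG.specDiagram A).obj j
  let q : Spec (CommRingCat.of A) ⟶ S₀ := (Groth.L05.ModelFG.specCone A).π.app j
  haveI : IsLocallyNoetherian S₀ := by
    haveI : Algebra.FiniteType ℤ j.unop.1 := j.unop.1.fg_iff_finiteType.mp j.unop.2
    haveI : IsNoetherianRing j.unop.1 := Algebra.FiniteType.isNoetherianRing ℤ j.unop.1
    exact inferInstanceAs (IsLocallyNoetherian (Spec (CommRingCat.of ↥j.unop.1)))
  let κ (z : Spec (CommRingCat.of A)) := (Spec (CommRingCat.of A)).fromSpecResidueField z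
  have key : ∀ z, FI f h (κ z) ↔ FI f₀ h₀ (S₀.fromSpecResidueField (q z)) := fun z =>
    (fi_iff_of_squares sqY₀ sqX₀ (κ z)).trans (fi_field_iff_of_eq f₀ h₀
      (K := (Spec (CommRingCat.of A)).residueField z) (L := S₀.residueField (q z)) _ _
      (IsLocalRing.closedPoint _) (IsLocalRing.closedPoint _)
      (by rw [Scheme.Hom.comp_apply]; exact (congrArg q (fsr _ _)).trans (fsr _ _).symm))
  rw [key a] at hF
  rw [key b]
  by_cases hne : q b = q a
  · rw [hne]; exact hF
  obtain ⟨R, r, hR, hc, hgen⟩ := Groth.Agent.S4450.result (𝟙 S₀) (q a) (q b) (hab.map q.continuous) hne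
  haveI := hR
  let K := S₀.residueField (q a)
  let k := IsLocalRing.ResidueField R
  let σK := Spec.map (CommRingCat.ofHom (algebraMap R K))
  let σk := Spec.map (CommRingCat.ofHom (algebraMap R k))
  let gYR := pullback.fst h₀ r
  let hRm : pullback h₀ r ⟶ Spec (CommRingCat.of R) := pullback.snd h₀ r
  have sqYR : IsPullback gYR hRm h₀ r := IsPullback.of_hasPullback _ _
  let fR := pullback.snd f₀ gYR
  have sqXR : IsPullback (pullback.fst f₀ gYR) fR f₀ gYR := IsPullback.of_hasPullback _ _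
  have sqgR := sqXR.paste_vert sqYR
  haveI : IsProper fR := MorphismProperty.of_isPullback sqXR hpr₀
  haveI : Flat (fR ≫ hRm) := MorphismProperty.of_isPullback sqgR hfl₀
  have hK : r (σK (IsLocalRing.closedPoint K)) = q a := by
    rw [← Scheme.Hom.comp_apply, show σK ≫ r = S₀.fromSpecResidueField (q a) ≫ 𝟙 S₀ from hgen,
      Category.comp_id]
    exact fsr _ _
  have hk : r (σk (IsLocalRing.closedPoint k)) = q b := by
    rw [← hc]
    refine congrArg r (PrimeSpectrum.ext ?_)
    show Ideal.comap (algebraMap R k) (IsLocalRing.maximalIdeal k) = IsLocalRing.maximalIdeal R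
    rw [IsLocalRing.maximalIdeal_eq_bot, ← RingHom.ker_eq_comap_bot]
    exact IsLocalRing.ker_residue
  have hsqg₀ : IsPullback qX (f ≫ h) (f₀ ≫ h₀) q := sqX₀.paste_vert sqY₀
  haveI : PreirreducibleSpace ↥(pullback (fR ≫ hRm) σK) :=
    preirreducibleSpace_transfer hpre hsqg₀ sqgR (K := (Spec (CommRingCat.of A)).residueField a)
      (κ a) σK ((congrArg q (fsr _ _)).trans hK.symm)
  haveI : PreirreducibleSpace ↥(pullback (fR ≫ hRm) σk) :=
    preirreducibleSpace_transfer hpre hsqg₀ sqgR (K := (Spec (CommRingCat.of A)).residueField b)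
      (κ b) σk ((congrArg q (fsr _ _)).trans hk.symm)
  have h1 : FI f₀ h₀ (σK ≫ r) := (fi_field_iff_of_eq f₀ h₀ (K := K) (L := K) _ _
    (IsLocalRing.closedPoint _) (IsLocalRing.closedPoint _)
    (by rw [Scheme.Hom.comp_apply]; exact (fsr _ _).trans hK.symm)).1 hF
  have h2 := fi_special_of_generic fR hRm K k IsLocalRing.residue_surjective
    ((fi_iff_of_squares sqYR sqXR σK).2 h1)
  exact (fi_field_iff_of_eq f₀ h₀ (K := k) (L := S₀.residueField (q b)) _ _
    (IsLocalRing.closedPoint _) (IsLocalRing.closedPoint _)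
    (by rw [Scheme.Hom.comp_apply]; exact hk.trans (fsr _ _).symm)).1 ((fi_iff_of_squares sqYR sqXR σk).1 h2)

end Model

theorem FI.restrict {X Y S X₁ Y₁ T : Scheme.{u}} {f : X ⟶ Y} {h : Y ⟶ S} {σ : T ⟶ S} (hF : FI f h σ)
    {f₁ : X₁ ⟶ Y₁} {gX : X₁ ⟶ X} {gY : Y₁ ⟶ Y} (sq : IsPullback gX f₁ f gY) {h₁ : Y₁ ⟶ S}
    (w : h₁ = gY ≫ h) : FI f₁ h₁ σ := by
  subst w
  let m : pullback (gY ≫ h) σ ⟶ pullback h σ :=
    pullback.map _ _ _ _ gY (𝟙 _) (𝟙 _) (by simp) (by simp)
  have hbig := (IsPullback.of_hasPullback f₁ (pullback.fst (gY ≫ h) σ)).paste_horiz sq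
  rw [show pullback.fst (gY ≫ h) σ ≫ gY = m ≫ pullback.fst h σ from (pullback.lift_fst _ _ _).symm] at hbig
  let l := pullback.lift (f := f) (g := pullback.fst h σ)
    (pullback.fst f₁ (pullback.fst (gY ≫ h) σ) ≫ gX)
    (pullback.snd f₁ (pullback.fst (gY ≫ h) σ) ≫ m) (by rw [hbig.w, Category.assoc])
  have hl : IsPullback l (pullback.snd f₁ (pullback.fst (gY ≫ h) σ)) (pullback.snd f (pullback.fst h σ)) m :=
    IsPullback.of_right (by rw [pullback.lift_fst]; exact hbig) (pullback.lift_snd _ _ _)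
      (IsPullback.of_hasPullback _ _)
  exact (MorphismProperty.of_isPullback (P := MorphismProperty.isomorphisms Scheme.{u}) hl hF :)

end Groth.L07.FibIso
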