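import Groth.Agent.L07.FibIso.Dvr
import Groth.Agent.L07.FibIso.Fibre
import Groth.Agent.S2387
import Groth.Agent.S4450
import Groth.Agent.L19.Limit.Proper
import Groth.Agent.L19.Limit.Smooth
import Groth.Agent.L19.Limit.FlatStage
import Groth.Agent.L19.Limit.Hom
import Groth.Agent.L05.ModelFG

/-!
# Specialisation and generisation of fibrewise isomorphisms
-/

set_option autoImplicit false
set_option linter.style.haveILetI false
set_option maxSynthPendingDepth 3
set_option backward.isDefEq.respectTransparency false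
set_option backward.isDefEq.respectTransparency.types false

universe u

open CategoryTheory CategoryTheory.Limits AlgebraicGeometry Opposite

noncomputable section

namespace Groth.L07.FibIso

section Dvr

variable {X Y : Scheme.{u}} {R : Type u} [CommRing R] [IsDomain R] [IsDiscreteValuationRing R]

theorem fsr {S : Scheme.{u}} (s : S) (p : Spec (S.residueField s)) : S.fromSpecResidueField s p = s :=
  (S.range_fromSpecResidueField s).le ⟨p, rfl⟩

theorem fi_of_isIso {S T : Scheme.{u}} (f : X ⟶ Y) [IsIso f] (h : Y ⟶ S) (σ : T ⟶ S) : FI f h σ :=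
  inferInstanceAs (IsIso (pullback.snd f (pullback.fst h σ)))

/-- Over a discrete valuation ring the generic fibre map is an isomorphism iff the special one is. -/
theorem fi_iff_of_dvr (f : X ⟶ Y) (h : Y ⟶ Spec (CommRingCat.of R)) [Smooth h] [IsProper h]
    [IsProper (f ≫ h)] [Flat (f ≫ h)] (K : Type u) [Field K] [Algebra R K] [IsFractionRing R K]
    (k : Type u) [Field k] [Algebra R k] (hk : Function.Surjective (algebraMap R k))
    [IrreducibleSpace ↥(pullback (f ≫ h) (Spec.map (CommRingCat.ofHom (algebraMap R K))))]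
    [IrreducibleSpace ↥(pullback (f ≫ h) (Spec.map (CommRingCat.ofHom (algebraMap R k))))] :
    FI f h (Spec.map (CommRingCat.ofHom (algebraMap R K))) ↔
      FI f h (Spec.map (CommRingCat.ofHom (algebraMap R k))) := by
  let σK := Spec.map (CommRingCat.ofHom (algebraMap R K))
  let σk := Spec.map (CommRingCat.ofHom (algebraMap R k))
  haveI : IsProper f := IsProper.of_comp f h
  obtain ⟨ϖ, hϖ⟩ := IsDiscreteValuationRing.exists_irreducible R
  let D : (Spec (CommRingCat.of R)).Opens := PrimeSpectrum.basicOpen ϖ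
  haveI : IsLocalization.Away ϖ K := by
    refine (IsLocalization.iff_of_le_of_exists_dvd (S := K) (M := Submonoid.powers ϖ) (nonZeroDivisors R)
      (powers_le_nonZeroDivisors_of_noZeroDivisors hϖ.ne_zero) fun r hr => ?_).2 ‹_›
    obtain ⟨n, u, rfl⟩ := IsDiscreteValuationRing.eq_unit_mul_pow_irreducible (nonZeroDivisors.ne_zero hr) hϖ
    exact ⟨ϖ ^ n, ⟨n, rfl⟩, ⟨↑u⁻¹, by rw [mul_comm (↑u : R), mul_assoc, Units.mul_inv, mul_one]⟩⟩
  have hσK : Set.range σK = (D : Set (Spec (CommRingCat.of R))) :=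
    PrimeSpectrum.localization_away_comap_range K ϖ
  have hker : RingHom.ker (algebraMap R k) = Ideal.span {ϖ} := by
    rw [← hϖ.maximalIdeal_eq]
    exact IsLocalRing.eq_maximalIdeal (RingHom.ker_isMaximal_of_surjective _ hk)
  have hσk : Set.range σk = (D : Set (Spec (CommRingCat.of R)))ᶜ := by
    show Set.range (PrimeSpectrum.comap (algebraMap R k)) = _
    rw [range_comap_of_surjective k (algebraMap R k) hk, hker, PrimeSpectrum.zeroLocus_span]
    exact (compl_compl _).symm.trans (congrArg compl (PrimeSpectrum.basicOpen_eq_zeroLocus_compl ϖ).symm)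
  constructor
  · intro hF
    haveI : IsOpenImmersion σK := IsOpenImmersion.of_isLocalization ϖ
    haveI := isIso_morphismRestrict_of_fi f h D hσK hF
    haveI : IsIso (pullback.map (f ≫ h) σK h σK f (𝟙 _) (𝟙 _) (by simp) (by simp)) :=
      (isIso_map_iff f h σK).2 hF
    haveI : IrreducibleSpace ↥(pullback h σK) :=
      (asIso (pullback.map (f ≫ h) σK h σK f (𝟙 _) (𝟙 _) _ _)).schemeIsoToHomeo.irreducibleSpace_iff.1
        ‹_›
    haveI : IsIso f := isIso_of_dvr f h ϖ hϖ
      (by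
        refine ⟨pullback.fst h σK (Classical.arbitrary _), ?_⟩
        have : pullback.fst h σK (Classical.arbitrary _) ∈ Set.range (pullback.fst h σK) := ⟨_, rfl⟩
        rw [Scheme.Pullback.range_fst, hσK] at this
        exact this)
      (isPreirreducible_preimage h σK _ hσK)
      (isPreirreducible_preimage (f ≫ h) σk _ hσk)
    exact fi_of_isIso f h _
  · intro hF
    let c : Spec (CommRingCat.of R) := IsLocalRing.closedPoint R
    have hc : FI f h ((Spec (CommRingCat.of R)).fromSpecResidueField c) := by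
      have h1 := (fi_field_iff f h σk).1 hF
      have h2 : σk (IsLocalRing.closedPoint k) = c := by
        apply PrimeSpectrum.ext
        show Ideal.comap (algebraMap R k) (IsLocalRing.maximalIdeal k) = IsLocalRing.maximalIdeal R
        rw [IsLocalRing.maximalIdeal_eq_bot, ← RingHom.ker_eq_comap_bot, hker, hϖ.maximalIdeal_eq]
      rwa [h2] at h1
    haveI : IsIso (CohIII.fiberMapOver f (f ≫ h) h rfl c) := (fiberMap_iff f h c).2 hc
    obtain ⟨U, hcU, hU⟩ := Groth.Agent.S2387.result f (f ≫ h) h rfl c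
    obtain rfl : U = ⊤ := (IsLocalRing.closedPoint_mem_iff U).1 hcU
    haveI : IsIso f := by
      have : IsIso (f ∣_ (⊤ : Y.Opens)) := by
        rw [← h.preimage_top]; exact hU
      exact ((MorphismProperty.isomorphisms Scheme.{u}).arrow_mk_iso_iff
        (Arrow.isoMk' _ f (Scheme.topIso _) (Scheme.topIso _) (by simp [morphismRestrict_ι]))).1 this
    exact fi_of_isIso f h _

end Dvr

section Squares

variable {X Y S X' Y' S' T : Scheme.{u}} {f : X ⟶ Y} {h : Y ⟶ S} {f' : X' ⟶ Y'} {h' : Y' ⟶ S'}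
  {g : S' ⟶ S} {gX : X' ⟶ X} {gY : Y' ⟶ Y}

theorem fi_iff_of_squares (hY : IsPullback gY h' h g) (hX : IsPullback gX f' f gY) (σ : T ⟶ S') :
    FI f' h' σ ↔ FI f h (σ ≫ g) := by
  have hbigY := (IsPullback.of_hasPullback h' σ).paste_horiz hY
  let e := hbigY.isoPullback
  have h1 : IsPullback (pullback.fst f' (pullback.fst h' σ) ≫ gX)
      (pullback.snd f' (pullback.fst h' σ) ≫ e.hom) f (pullback.fst h (σ ≫ g)) :=
    ((IsPullback.of_hasPullback f' (pullback.fst h' σ)).paste_horiz hX).of_iso (Iso.refl _) (Iso.refl _)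
      e (Iso.refl _) (by simp) (by simp) (by simp) (by simp [e])
  show IsIso (pullback.snd f' (pullback.fst h' σ)) ↔ IsIso (pullback.snd f (pullback.fst h (σ ≫ g)))
  constructor
  · intro _
    have : IsIso (pullback.snd f' (pullback.fst h' σ) ≫ e.hom) := inferInstance
    rw [← h1.isoPullback_hom_snd] at this
    exact IsIso.of_isIso_comp_left h1.isoPullback.hom _
  · intro _
    have h2 : IsIso (pullback.snd f' (pullback.fst h' σ) ≫ e.hom) := by
      rw [← h1.isoPullback_hom_snd]; infer_instance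
    exact IsIso.of_isIso_comp_right _ e.hom

end Squares

/-- Fibre products over a common field valued point. -/
theorem exists_common {S : Scheme.{u}} {K L : Type u} [Field K] [Field L]
    (σ : Spec (CommRingCat.of K) ⟶ S) (σ' : Spec (CommRingCat.of L) ⟶ S)
    (he : σ (IsLocalRing.closedPoint K) = σ' (IsLocalRing.closedPoint L)) :
    ∃ (M : Type u) (_ : Field M) (τ : Spec (CommRingCat.of M) ⟶ Spec (CommRingCat.of K))
      (τ' : Spec (CommRingCat.of M) ⟶ Spec (CommRingCat.of L)), τ ≫ σ = τ' ≫ σ' := by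
  obtain ⟨z, -, -⟩ := Scheme.Pullback.exists_preimage_pullback _ _ he
  refine ⟨(pullback σ σ').residueField z, inferInstance,
    (pullback σ σ').fromSpecResidueField z ≫ pullback.fst σ σ',
    (pullback σ σ').fromSpecResidueField z ≫ pullback.snd σ σ', ?_⟩
  rw [Category.assoc, Category.assoc, pullback.condition]

/-- The fibres over a base changed family of a geometrically irreducible family are irreducible. -/
theorem irreducibleSpace_transfer {X S X' S' X₀ S₀ X₁ S₁ : Scheme.{u}} {g : X ⟶ S} [GeometricallyIrreducible g]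
    {g' : X' ⟶ S'} {g₀ : X₀ ⟶ S₀} {g₁ : X₁ ⟶ S₁} {a : X' ⟶ X} {ι : S' ⟶ S} (sq : IsPullback a g' g ι)
    {b : X' ⟶ X₀} {q : S' ⟶ S₀} (sq₀ : IsPullback b g' g₀ q)
    {c : X₁ ⟶ X₀} {r : S₁ ⟶ S₀} (sq₁ : IsPullback c g₁ g₀ r)
    {K L : Type u} [Field K] [Field L] (σ : Spec (CommRingCat.of K) ⟶ S')
    (σ₁ : Spec (CommRingCat.of L) ⟶ S₁)
    (he : q (σ (IsLocalRing.closedPoint K)) = r (σ₁ (IsLocalRing.closedPoint L))) :
    IrreducibleSpace ↥(pullback g₁ σ₁) := by
  obtain ⟨M, _, τ, τ', hτ⟩ := exists_common (σ ≫ q) (σ₁ ≫ r) he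
  have hW := IsPullback.of_hasPullback g' (τ ≫ σ)
  haveI : IrreducibleSpace ↥(pullback g' (τ ≫ σ)) :=
    GeometricallyIrreducible.geometrically_irreducibleSpace _ _ _ (hW.paste_horiz sq)
  have h0 : IsPullback (pullback.fst g' (τ ≫ σ) ≫ b) (pullback.snd g' (τ ≫ σ)) g₀ ((τ' ≫ σ₁) ≫ r) := by
    have := hW.paste_horiz sq₀
    rwa [show (τ ≫ σ) ≫ q = (τ' ≫ σ₁) ≫ r by rw [Category.assoc, hτ, Category.assoc]] at this
  let l := sq₁.lift (pullback.fst g' (τ ≫ σ) ≫ b) (pullback.snd g' (τ ≫ σ) ≫ τ' ≫ σ₁)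
    (by rw [h0.w]; simp [Category.assoc])
  have h1 : IsPullback l (pullback.snd g' (τ ≫ σ)) g₁ (τ' ≫ σ₁) :=
    IsPullback.of_right (by rw [sq₁.lift_fst]; exact h0) (sq₁.lift_snd _ _ _) sq₁
  haveI : IrreducibleSpace ↥(pullback g₁ (τ' ≫ σ₁)) :=
    h1.isoPullback.schemeIsoToHomeo.irreducibleSpace_iff.1 ‹_›
  exact irreducibleSpace_of_comp σ₁ τ' g₁

section Model

variable {A : Type u} [CommRing A]

/-- A proper model with a descendable property over a finitely generated subring. -/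
theorem exists_proper_model {P : MorphismProperty Scheme.{u}} [P.IsStableUnderBaseChange]
    (hdesc : Groth.L19.Limit.Descends P Groth.L19.Limit.qcqsfp) {X : Scheme.{u}}
    (f : X ⟶ Spec (CommRingCat.of A)) [IsProper f] [LocallyOfFinitePresentation f] (hP : P f) :
    ∃ (j : (Groth.L05.ModelFG.FG A)ᵒᵖ) (X₀ : Scheme.{u}) (f₀ : X₀ ⟶ (Groth.L05.ModelFG.specDiagram A).obj j)
      (g : X ⟶ X₀), P f₀ ∧ IsProper f₀ ∧ LocallyOfFinitePresentation f₀ ∧
        IsPullback g f f₀ ((Groth.L05.ModelFG.specCone A).π.app j) := by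
  obtain ⟨A₀, hA₀, X₀, f₀, g, hP₀, h1, h2, sq⟩ := Groth.L05.ModelFG.exists_model (A := A)
    (P := P) hdesc f hP
  haveI := h1; haveI := h2
  let D := Groth.L05.ModelFG.specDiagram A
  let c := Groth.L05.ModelFG.specCone A
  let i : (Groth.L05.ModelFG.FG A)ᵒᵖ := op ⟨A₀, hA₀⟩
  haveI : CompactSpace (D.obj i) := inferInstanceAs (CompactSpace (Spec (CommRingCat.of ↥A₀)))
  haveI : QuasiSeparatedSpace (D.obj i) := inferInstanceAs (QuasiSeparatedSpace (Spec (CommRingCat.of ↥A₀)))
  haveI : CompactSpace X₀ := QuasiCompact.compactSpace_of_compactSpace f₀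
  let f₀' : X₀ ⟶ D.obj i := f₀
  haveI : LocallyOfFiniteType f₀' := inferInstanceAs (LocallyOfFiniteType f₀)
  haveI : QuasiCompact f₀' := inferInstanceAs (QuasiCompact f₀)
  have hY : IsPullback (c.π.app i) (𝟙 c.pt) (𝟙 (D.obj i)) (c.π.app i) := IsPullback.of_id_fst.flip
  let f' : X ⟶ c.pt := f
  haveI : IsProper f' := inferInstanceAs (IsProper f)
  have hX : IsPullback g f' f₀' (c.π.app i) := sq
  haveI : Algebra.FiniteType ℤ A₀ := A₀.fg_iff_finiteType.mp hA₀
  haveI : IsNoetherianRing A₀ := Algebra.FiniteType.isNoetherianRing ℤ A₀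
  haveI : IsLocallyNoetherian X₀ := LocallyOfFiniteType.isLocallyNoetherian f₀
  haveI : QuasiSeparatedSpace X₀ := inferInstance
  obtain ⟨j, hj⟩ := Groth.L19.Limit.exists_isProper (D := D) (f₀ := f₀') (g₀ := 𝟙 (D.obj i))
    (g := 𝟙 c.pt) (Groth.L05.ModelFG.isLimitSpecCone A) hY hX
  let X₁ := pullback (D.map j.hom) f₀'
  let f₁ : X₁ ⟶ D.obj j.left := pullback.fst (D.map j.hom) f₀'
  refine ⟨j.left, X₁, f₁,
    pullback.lift (f' ≫ c.π.app j.left) g (by rw [Category.assoc, c.w]; exact hX.w.symm),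
    MorphismProperty.pullback_fst _ _ hP₀, ?_,
    MorphismProperty.pullback_fst _ _ (inferInstanceAs (LocallyOfFinitePresentation f₀)), ?_⟩
  · let e : X₁ ≅ (Groth.L19.Limit.bcDiagram D (f₀' ≫ 𝟙 (D.obj i))).obj j :=
      pullback.congrHom rfl (Category.comp_id f₀').symm
    have he : f₁ = e.hom ≫ Groth.L19.Limit.stageHom f₀' (𝟙 (D.obj i)) j ≫ pullback.fst (D.map j.hom) (𝟙 (D.obj i)) := by
      rw [Groth.L19.Limit.stageHom_fst]
      simp [e, f₁, Groth.L19.Limit.bcDiagram]
    haveI := hj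
    show IsProper f₁
    rw [he]
    infer_instance
  · exact IsPullback.of_right (by
        show IsPullback _ f' f₀' (c.π.app j.left ≫ D.map j.hom)
        rw [pullback.lift_snd, c.w]
        exact hX)
      (pullback.lift_fst _ _ _) (IsPullback.of_hasPullback (D.map j.hom) f₀').flip

/-- A model of a proper flat family mapping to a proper smooth family. -/
theorem exists_pair_model {X Y : Scheme.{u}} (f : X ⟶ Y) (h : Y ⟶ Spec (CommRingCat.of A)) [Smooth h]
    [IsProper h] [IsProper (f ≫ h)] [Flat (f ≫ h)] [LocallyOfFinitePresentation (f ≫ h)] :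
    ∃ (j : (Groth.L05.ModelFG.FG A)ᵒᵖ) (X₀ Y₀ : Scheme.{u}) (f₀ : X₀ ⟶ Y₀)
      (h₀ : Y₀ ⟶ (Groth.L05.ModelFG.specDiagram A).obj j) (gX : X ⟶ X₀) (gY : Y ⟶ Y₀),
      Smooth h₀ ∧ IsProper h₀ ∧ IsProper (f₀ ≫ h₀) ∧ Flat (f₀ ≫ h₀) ∧
        IsPullback gY h h₀ ((Groth.L05.ModelFG.specCone A).π.app j) ∧ IsPullback gX f f₀ gY := by
  obtain ⟨j₁, X₁, g₁, qX, hfl, hpr, hlfp, sqX⟩ :=
    exists_proper_model (P := @Flat) Groth.L19.Limit.descends_flat (f ≫ h) ‹_›
  obtain ⟨j₂, Y₁, h₁, qY, hsm, hpr', -, sqY⟩ :=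
    exists_proper_model (P := @Smooth) Groth.L19.Limit.descends_smooth h ‹_›
  let D := Groth.L05.ModelFG.specDiagram A
  let c := Groth.L05.ModelFG.specCone A
  let i := IsCofiltered.min j₁ j₂
  let xi := pullback.snd g₁ (D.map (IsCofiltered.minToLeft j₁ j₂))
  let yi := pullback.snd h₁ (D.map (IsCofiltered.minToRight j₁ j₂))
  haveI := hfl; haveI := hpr; haveI := hsm; haveI := hpr'; haveI := hlfp
  haveI : Smooth yi := MorphismProperty.pullback_snd _ _ hsm
  haveI : IsProper yi := MorphismProperty.pullback_snd _ _ hpr'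
  haveI : IsProper xi := MorphismProperty.pullback_snd _ _ hpr
  haveI : Flat xi := MorphismProperty.pullback_snd _ _ hfl
  haveI : CompactSpace (D.obj i) := inferInstanceAs (CompactSpace (Spec _))
  haveI : QuasiSeparatedSpace (D.obj i) := inferInstanceAs (QuasiSeparatedSpace (Spec _))
  haveI : CompactSpace ↥(pullback g₁ (D.map (IsCofiltered.minToLeft j₁ j₂))) :=
    QuasiCompact.compactSpace_of_compactSpace xi
  haveI : QuasiSeparatedSpace ↥(pullback g₁ (D.map (IsCofiltered.minToLeft j₁ j₂))) :=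
    quasiSeparatedSpace_of_quasiSeparated xi
  let sX' : X ⟶ pullback g₁ (D.map (IsCofiltered.minToLeft j₁ j₂)) :=
    pullback.lift qX ((f ≫ h) ≫ c.π.app i) (by rw [Category.assoc, c.w]; exact sqX.w)
  have hX : IsPullback sX' (f ≫ h) xi (c.π.app i) :=
    IsPullback.of_right (by rw [pullback.lift_fst, c.w]; exact sqX) (pullback.lift_snd _ _ _)
      (IsPullback.of_hasPullback _ _)
  let sY' : Y ⟶ pullback h₁ (D.map (IsCofiltered.minToRight j₁ j₂)) :=
    pullback.lift qY (h ≫ c.π.app i) (by rw [Category.assoc, c.w]; exact sqY.w)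
  have hY : IsPullback sY' h yi (c.π.app i) :=
    IsPullback.of_right (by rw [pullback.lift_fst, c.w]; exact sqY) (pullback.lift_snd _ _ _)
      (IsPullback.of_hasPullback _ _)
  obtain ⟨j, φ, fj, sX, sY, hfj, hX1, hX2, hY1, hY2, hcomm⟩ :=
    Groth.L19.Limit.exists_hom_stage (Groth.L05.ModelFG.isLimitSpecCone A) hX hY f rfl
  have sqY' : IsPullback sY h (pullback.snd yi (D.map φ)) (c.π.app j) :=
    IsPullback.of_right (by rw [hY1, c.w]; exact hY) hY2 (IsPullback.of_hasPullback yi (D.map φ))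
  have sqX' : IsPullback sX (f ≫ h) (pullback.snd xi (D.map φ)) (c.π.app j) :=
    IsPullback.of_right (by rw [hX1, c.w]; exact hX) hX2 (IsPullback.of_hasPullback xi (D.map φ))
  refine ⟨j, _, _, fj, pullback.snd yi (D.map φ), sX, sY, inferInstance, inferInstance, ?_, ?_, sqY', ?_⟩
  · rw [hfj]; infer_instance
  · rw [hfj]; infer_instance
  · refine IsPullback.of_bot ?_ hcomm sqY'
    rw [hfj]
    exact sqX'

end Model

variable {X Y S : Scheme.{u}} (f : X ⟶ Y) (h : Y ⟶ S) [Smooth h] [IsProper h] [IsProper (f ≫ h)]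
  [Flat (f ≫ h)] [LocallyOfFinitePresentation (f ≫ h)] [GeometricallyIrreducible (f ≫ h)]

/-- The fibre maps at two points related by specialisation are isomorphisms simultaneously. -/
theorem fiberMap_iff_of_specializes {s s₀ : S} (hs : s ⤳ s₀) :
    IsIso (CInt.fiberMap f h s) ↔ IsIso (CInt.fiberMap f h s₀) := by
  rw [fiberMap_iff, fiberMap_iff]
  obtain ⟨_, ⟨V, hV, rfl⟩, hs₀V, -⟩ :=
    S.isBasis_affineOpens.exists_subset_of_mem_open (Set.mem_univ s₀) isOpen_univ
  replace hV : IsAffineOpen V := hV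
  obtain ⟨a₀, rfl⟩ : s₀ ∈ Set.range hV.fromSpec := by rw [hV.range_fromSpec]; exact hs₀V
  obtain ⟨a, rfl⟩ : s ∈ Set.range hV.fromSpec := by
    rw [hV.range_fromSpec]; exact hs.mem_open V.2 hs₀V
  have ha : a ⤳ a₀ := hV.fromSpec.isOpenEmbedding.isInducing.specializes_iff.1 hs
  let ι := hV.fromSpec
  let gY := pullback.fst h ι
  let h' : pullback h ι ⟶ Spec Γ(S, V) := pullback.snd h ι
  have sqY : IsPullback gY h' h ι := IsPullback.of_hasPullback _ _
  let f' := pullback.snd f gY
  have sqX : IsPullback (pullback.fst f gY) f' f gY := IsPullback.of_hasPullback _ _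
  have sqg : IsPullback (pullback.fst f gY) (f' ≫ h') (f ≫ h) ι := sqX.paste_vert sqY
  haveI : IsProper (f' ≫ h') := MorphismProperty.of_isPullback sqg ‹IsProper (f ≫ h)›
  haveI : Flat (f' ≫ h') := MorphismProperty.of_isPullback sqg ‹Flat (f ≫ h)›
  haveI : LocallyOfFinitePresentation (f' ≫ h') :=
    MorphismProperty.of_isPullback sqg ‹LocallyOfFinitePresentation (f ≫ h)›
  obtain ⟨j, X₀, Y₀, f₀, h₀, qX, qY, hsm, hpr, hpr₀, hfl₀, sqY₀, sqX₀⟩ :=
    exists_pair_model (A := Γ(S, V)) f' h'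
  haveI := hsm; haveI := hpr; haveI := hpr₀; haveI := hfl₀
  let S₀ := (Groth.L05.ModelFG.specDiagram Γ(S, V)).obj j
  let q : Spec Γ(S, V) ⟶ S₀ := (Groth.L05.ModelFG.specCone Γ(S, V)).π.app j
  haveI : IsLocallyNoetherian S₀ := by
    haveI : Algebra.FiniteType ℤ j.unop.1 := j.unop.1.fg_iff_finiteType.mp j.unop.2
    haveI : IsNoetherianRing j.unop.1 := Algebra.FiniteType.isNoetherianRing ℤ j.unop.1
    exact inferInstanceAs (IsLocallyNoetherian (Spec (CommRingCat.of ↥j.unop.1)))
  have key : ∀ b, FI f h (S.fromSpecResidueField (ι b)) ↔ FI f₀ h₀ (S₀.fromSpecResidueField (q b)) := fun b => by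
    let σb := (Spec Γ(S, V)).fromSpecResidueField b
    have hb : σb (IsLocalRing.closedPoint _) = b := fsr _ _
    calc _ ↔ FI f h (σb ≫ ι) := fi_field_iff_of_eq f h (K := S.residueField (ι b))
          (L := (Spec Γ(S, V)).residueField b) _ _ (IsLocalRing.closedPoint _) (IsLocalRing.closedPoint _)
          (by rw [Scheme.Hom.comp_apply]; exact (fsr _ _).trans (congrArg ι hb).symm)
      _ ↔ FI f' h' σb := (fi_iff_of_squares sqY sqX σb).symm
      _ ↔ FI f₀ h₀ (σb ≫ q) := fi_iff_of_squares sqY₀ sqX₀ σb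
      _ ↔ _ := fi_field_iff_of_eq f₀ h₀ (K := (Spec Γ(S, V)).residueField b) (L := S₀.residueField (q b)) _ _
          (IsLocalRing.closedPoint _) (IsLocalRing.closedPoint _)
          (by rw [Scheme.Hom.comp_apply]; exact (congrArg q hb).trans (fsr _ _).symm)
  rw [key a, key a₀]
  by_cases hne : q a₀ = q a
  · rw [hne]
  obtain ⟨R, r, hR, hc, hgen⟩ := Groth.Agent.S4450.result (𝟙 S₀) (q a) (q a₀) (ha.map q.continuous) hne
  haveI := hR
  let K := S₀.residueField (q a)
  let k := IsLocalRing.ResidueField R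
  let σK := Spec.map (CommRingCat.ofHom (algebraMap R K))
  let σk := Spec.map (CommRingCat.ofHom (algebraMap R k))
  let gYR := pullback.fst h₀ r
  let hRm : pullback h₀ r ⟶ Spec (CommRingCat.of R) := pullback.snd h₀ r
  have sqYR : IsPullback gYR hRm h₀ r := IsPullback.of_hasPullback _ _
  let fR := pullback.snd f₀ gYR
  have sqXR : IsPullback (pullback.fst f₀ gYR) fR f₀ gYR := IsPullback.of_hasPullback _ _
  have sqgR := sqXR.paste_vert sqYR
  haveI : IsProper (fR ≫ hRm) := MorphismProperty.of_isPullback sqgR hpr₀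
  haveI : Flat (fR ≫ hRm) := MorphismProperty.of_isPullback sqgR hfl₀
  have hK : r (σK (IsLocalRing.closedPoint K)) = q a := by
    rw [← Scheme.Hom.comp_apply, show σK ≫ r = S₀.fromSpecResidueField (q a) ≫ 𝟙 S₀ from hgen,
      Category.comp_id]
    exact fsr _ _
  have hk : r (σk (IsLocalRing.closedPoint k)) = q a₀ := by
    rw [← hc]
    refine congrArg r (PrimeSpectrum.ext ?_)
    show Ideal.comap (algebraMap R k) (IsLocalRing.maximalIdeal k) = IsLocalRing.maximalIdeal R
    rw [IsLocalRing.maximalIdeal_eq_bot, ← RingHom.ker_eq_comap_bot]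
    exact IsLocalRing.ker_residue
  have hsqg₀ : IsPullback qX (f' ≫ h') (f₀ ≫ h₀) q := sqX₀.paste_vert sqY₀
  haveI : IrreducibleSpace ↥(pullback (fR ≫ hRm) σK) :=
    irreducibleSpace_transfer sqg hsqg₀ sqgR (K := (Spec Γ(S, V)).residueField a)
      ((Spec Γ(S, V)).fromSpecResidueField a) σK (((congrArg q (fsr _ _))).trans hK.symm)
  haveI : IrreducibleSpace ↥(pullback (fR ≫ hRm) σk) :=
    irreducibleSpace_transfer sqg hsqg₀ sqgR (K := (Spec Γ(S, V)).residueField a₀)
      ((Spec Γ(S, V)).fromSpecResidueField a₀) σk (((congrArg q (fsr _ _))).trans hk.symm)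
  calc _ ↔ FI f₀ h₀ (σK ≫ r) := fi_field_iff_of_eq f₀ h₀ (K := K) (L := K) _ _
        (IsLocalRing.closedPoint _) (IsLocalRing.closedPoint _)
        (by rw [Scheme.Hom.comp_apply]; exact (fsr _ _).trans hK.symm)
    _ ↔ FI fR hRm σK := (fi_iff_of_squares sqYR sqXR σK).symm
    _ ↔ FI fR hRm σk := fi_iff_of_dvr fR hRm K k IsLocalRing.residue_surjective
    _ ↔ FI f₀ h₀ (σk ≫ r) := fi_iff_of_squares sqYR sqXR σk
    _ ↔ _ := fi_field_iff_of_eq f₀ h₀ (K := k) (L := S₀.residueField (q a₀)) _ _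
        (IsLocalRing.closedPoint _) (IsLocalRing.closedPoint _)
        (by rw [Scheme.Hom.comp_apply]; exact hk.trans (fsr _ _).symm)

end Groth.L07.FibIso
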